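import Cfsg.Agent.Lib.Comp.He.Main
import Cfsg.Agent.Lib.Comp.He.U

set_option maxRecDepth 100000

namespace Cfsg.Lib.Comp.He

universe u

theorem U_act : cnd (transB nets L [2,7,3,4,3,5,6,4,2,3,7,6,4,7,5,3,4,6,2,3,4,7,2,6] 2058) (cnd (allL [[1],
 [3],
 [4],
 [5],
 [6],
 [1,2,1,2],
 [2,3,4,5,2,3,4,5,2,3,4,5,2,3,4,5,2,3,4,5,2,3,4,5,2,3,4,5]] fun w => subB w L) (wfixB nets [[1],
 [3],
 [4],
 [5],
 [6],
 [1,2,1,2],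
 [2,3,4,5,2,3,4,5,2,3,4,5,2,3,4,5,2,3,4,5,2,3,4,5,2,3,4,5]] 0) false) false = true := by
  decide +kernel

end Cfsg.Lib.Comp.He
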