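import Cfsg.Agent.Lib.Comp.He.Ord
import Cfsg.Agent.Lib.Comp.PermGrp

set_option maxRecDepth 100000

namespace Cfsg.Lib.Comp.He

universe u

theorem card : Nat.card (cl (gp nets) L) = 4030387200 := card_of_ord ord nets_iv nets_rel lb

noncomputable def nc_h : ℕ := (nat_lit 0x30000000000000001000000000000000000000000000100000000210000000001000021000021000300002100002100020000000000000000000002000000000000002300000100030000230000020000000024000023000400002400002400070000240000240006000024000024000300000200002400010000020000230004000021000021000200000100002100030000010000000000000003000001000400000300000300060000030000030005000001000001000600000100000100060000020000020004000002000002000400000100000100070000030000030007000002000002000700000100000100070000000000000004000000000000000000000400000000070000040000000006000004000004000600000000000000000000080000040000000000000006000500000000000000000000000000050006000004000008000400000600000800070000000000080007000004000006000600000000000600050000000000050004000000000004000300000000000300020000000000020001000000000001)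

noncomputable def nc_c : List ℕ := [(nat_lit 0x8300007d0000ad00007f000081005c050000050000a90012020000010000a700008b000e0300006f0000030000050000a300008b00000700007f0000030000050000a300ea0a00008d00009d00160200008b00008d00009b00008f00006300008d00009b00008f00006300008d00009b01120b000097000091000a0200008f00005500008d009c0300008f00006500008d00940300000000000000008300005d00008100640300000000000900007900160200000300000900007700000b00004900000900007700000b00004900000900007701120b00005b000073000a0200000b00003900000900940300005300006b00005300006b00d80400005300005f000802000057000063000802000007000049000005006403000003000049000001003c0300000b00004d000009009c0300000700004d000005007c0300000300004d00000100540300004300004500260200000d000045001a0200000d00003d00000f00003900000d00003d00ac0600001d00003500260200002500003500220200001500003300220200000f000031000021001a0300002100001f00000d00001900002100001f00b40600001100002b001e0200001300001500001b00002500001f00d60500001f00000d00080200001f000015000a0200000000001700000d00060200000000000000000000000000000000000000002d),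
 (nat_lit 0x7f0000bf0016020000010000bf000e020000030000bb0000b50000b9000e0400002d0000010000810000b30000b700008300007d0000010000810000b300ea0a0000870000b30000870000b30000870000b30000870000b30000870000b301140a000005)]

theorem nc_b : goalB 1 (fun _ p => p) iv (allCodes iv (([6,7,4], 0) :: R)) (fun t => look nc_h 64 t, nc_c) 0 [([1],1,(nat_lit 0xc1)),
 ([2],1,(nat_lit 0xad)),
 ([3],1,(nat_lit 0xc5)),
 ([4],1,(nat_lit 0x49)),
 ([5],1,(nat_lit 0x2d)),
 ([6],1,(nat_lit 0x39)),
 ([7],1,(nat_lit 0x4d))] (msk []) = true := by decide +kernel

theorem nc : Mem.{u} iv (([6,7,4], 0) :: R) ([].map fun x => [x]) [[1],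
 [2],
 [3],
 [4],
 [5],
 [6],
 [7]] := mem_of_goalB nc_b

noncomputable def subs : List (List ℕ × ℕ) := [([3,4,3,5,6,4,65,5,6,3,4,65,6,5,3,4,3,5,65,6,4,5,1],1360),
 ([3,6,4,65,5,3,4,6,5,65,4,5,6,65,1],136),
 ([1,3,4,65,3,5,4,6,3,4,65,5,3,4,65,6],136),
 ([3,5,6,65,4,6,65,4,3,5,4,6,65,3,4,5,6,4],425)]

theorem simpleB : cnd (transB nets L [2,7,3,4,3,5,6,4,2,3,7,6,4,7,5,3,4,6,2,3,4,7,2,6] 2058) (cnd (fxB 2560 12 2058 nets L)
  (cnd (invB nets [1,3,4,5,6,64,65] (Nat.shiftLeft 1 0)) (subsB nets [1,3,4,5,6,64,65] subs 1) false) false) false = true := by decide +kernel

theorem simple : IsSimpleGroup (cl (gp nets) L) :=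
  simple_perm nets_ok (by norm_num) (by norm_num) nets_iv nets_rel (by decide +kernel) (fun x hx => mem_all (sub_of_subB (by decide +kernel) x hx)) simpleB (by decide +kernel)
    (p := 7) (a := 3) (m := 11750400) (j := 1) (by norm_num) (card.trans (by norm_num)) (by norm_num) (by norm_num) (by decide +kernel)
    (w := [6,7,4]) (by decide +kernel) (eq_of_eqB (k := 12) (e := 6) (w := []) nets_ok (by norm_num) (by decide +kernel)) nc

end Cfsg.Lib.Comp.He
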