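import Cfsg.Agent.Lib.Comp.He.Act
import Cfsg.Agent.Lib.Comp.Subst2
import Cfsg.Agent.Lib.Comp.S44x.Main

set_option maxRecDepth 100000
set_option Elab.async false

namespace Cfsg.Lib.Comp.He

noncomputable def ch : List Lev := [([1,3,4,5,6,64,65,66,67],[2,7,3,4,65,5,6,3,4,65,7,2,5,6,4,3,65,4,5,6,4],0,0,2058),
 ([1,4,5,6,64,65,66,67],[3,4,3,5,6,4,65,5,6,3,4,65,6,5,3,4,3,5,65,6,4,67,1],1,1,1360),
 ([1,67],[4,5,6,65,4,6,5,4,67,65,6,4,5,4],2,2,360),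
 ([],[1,67],617,617,4)]

noncomputable def M : List ℕ := L ++ slp.map (·.1)

theorem cl_M : cl (gp nets) M = cl (gp nets) L := cl_eq_of_slpB nets_ok (by norm_num) slp_ok

theorem exact_ch : Exact nets ch M := exact_of_beq (cl_M ▸ card.le) (by decide +kernel)

theorem base : IsBase (cl (gp nets) L) [0,1,2,617] := cl_M ▸ exact_ch.isBase nets_ok

noncomputable def tb0 : ℕ → ℕ → ℕ := tbx 2560 (tbk 12 4 prs12 nets 256)

theorem tb0_ok : TbA nets tb0 := tbA_tbx nets_ok (tbk_eq tr12 (by norm_num) (by norm_num) (by norm_num) nets_ok)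

noncomputable def s44V : List (List ℕ) := [[],
 [1,5,6],
 [1,4,5,3,4,3,4,5,6,4,3,4,3,5,4],
 [4,3,4,3,6,4],
 [4,6,3,4,3,4],
 [1,67,4,6,67,4,3,4,5,6,4,3],
 [67,4,6,65,6,67,4,6,3,4,3,6,4,3,5,65,6,4,3,4,5,65],
 [1,4,5,6,66,6,4,5,3,4,3,5,6,4,65],
 [66,4,6,5,3,4,3,5,4,6,65,6,5,4,1],
 [67,4,6,66,67,4,6,3,4,3,6,4,3,5,65,6,4,3,4,5],
 [1,4,3,4,5,6,4,3,4]]

theorem s44_sub : allL s44V (fun w => subB w M) = true := by decide +kernel

theorem s44_iv : sivP tb0 [0,1,2,617] s44V S44x.iv = true := by decide +kernel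

theorem s44_rel : srelP tb0 [0,1,2,617] s44V S44x.R = true := by decide +kernel

theorem s44_ne : ∃ p ∈ [0,1,2,617], Nat.beq (wap tb0 (nth [] s44V 1) p) p = false := by decide +kernel

theorem s44_le : cl (sv (gp nets) s44V) S44x.L ≤ cl (gp nets) L := cl_le.2 fun x _ => sv_mem (fun _ => mem_all) s44_sub x

theorem s44_iso : Nonempty (cl (gp S44x.nets) S44x.L ≃* cl (sv (gp nets) s44V) S44x.L) := by
  obtain ⟨p, -, hp⟩ := s44_ne
  obtain ⟨e, -⟩ := embed_of_rels S44x.simple S44x.nets_iv S44x.nets_rel S44x.ord S44x.lb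
    (siv base tb0_ok (fun _ => mem_all) s44_sub s44_iv) (srels base tb0_ok (fun _ => mem_all) s44_sub s44_rel) (x := 1) (by decide)
    (sv_ne tb0_ok hp)
  exact ⟨e⟩

theorem s44_fix : ∀ s ∈ cl (sv (gp nets) s44V) S44x.L, s 0 = 0 := sv_fix tb0_ok (by decide +kernel) _

end Cfsg.Lib.Comp.He
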